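import Cfsg.Agent.H684.EB.N8
import Cfsg.Agent.H684.EB.EvenS
import Cfsg.Agent.H104.EB.COne
import Cfsg.Agent.H890.EB.ThData
import Cfsg.Agent.H55.OutGen
import Cfsg.Agent.S2083

/-!
# TEAM EB: the row of the Thompson group (helper890)
-/

set_option autoImplicit false

namespace Cfsg.Agent.H890.EB

open Cfsg Cfsg.Agent.H684.EB Cfsg.Agent.H610.EB

universe u

/-- (N8) with constrained centralizers -/
theorem N8.evenS {S : Type u} [Group S] [Fintype S] {y z : S} {K E : Subgroup S} (h : N8 S y z K E) : EvenS S := by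
  have : Fact (Nat.Prime 2) := ⟨Nat.prime_two⟩
  obtain ⟨Q, hQ, hna, hzQ⟩ := h.exists_sylow
  refine evenS_of_n8 y h.odd h.real Q hQ hna z h.zo hzQ h.zy fun M hM x hx hz => ?_
  obtain ⟨D, hD, hD2, hDc⟩ := exists_constr h.Etwo h.Enorm h.Ecent hx hz
  exact Cfsg.Agent.H104.EB.COne.oneBlock_of_constrained hM D hD2 hDc

theorem th_evenS {S : Type u} [Group S] [Fintype S] (h : Spor.IsoTh S) : EvenS S := by
  obtain ⟨y, z, K, E, hN⟩ := n8_th h
  exact hN.evenS

/-- every automorphism of the Thompson group is inner -/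
theorem th_inner {S : Type u} [Group S] (h : Spor.IsoTh S) (α : S ≃* S) : ∃ s : S, ∀ x : S, α x = s * x * s⁻¹ := by
  obtain ⟨e⟩ := h
  have hout : Nat.card (Out S) = 1 := by rw [H55.OutGen.card_out_congr e, S2083.result]
  have h1 : Subsingleton (Out S) := (Nat.card_eq_one_iff_unique.1 hout).1
  have h2 : (QuotientGroup.mk (α : MulAut S) : Out S) = QuotientGroup.mk 1 := Subsingleton.elim _ _
  rw [eq_comm, QuotientGroup.eq, inv_one, one_mul] at h2
  obtain ⟨s, hs⟩ := h2
  refine ⟨s, fun x => ?_⟩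
  have h3 := congrArg (fun β : MulAut S => β x) hs
  exact h3.symm

/-- **TEAM EB, [T16]: the row of the Thompson group** -/
theorem th {S : Type u} [Group S] (h : Spor.IsoTh S) : EvenB S := by
  have hfin : Finite S := by
    obtain ⟨e⟩ := h
    have : Finite Spor.Th := Cfsg.Agent.KFacts.Th.Main.ctx.fin
    exact Finite.of_equiv _ e.symm.toEquiv
  have := Fintype.ofFinite S
  exact evenB_of_evenS_of_inner (th_evenS h) (th_inner h)

end Cfsg.Agent.H890.EB
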